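import Groth.Agent.InertiaUnr.Points
import Groth.Agent.GrpInfLib.TorsLift
import Groth.Agent.FixedSmooth.Split

/-!
# Torsion points extending to the valuation ring are fixed by inertia
-/

set_option autoImplicit false
set_option linter.style.haveILetI false
set_option backward.isDefEq.respectTransparency false
universe u

open CategoryTheory CategoryTheory.Limits AlgebraicGeometry MonObj
open Groth.Agent.FixedSmooth MonoidalCategory CartesianMonoidalCategory GrpObj

noncomputable section

namespace Groth.Agent.InertiaUnr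

/-- The integral base as an object over a base. -/
noncomputable abbrev ringObj {S : Scheme.{u}} {W : Type u} [CommRing W] (φ : Spec (CommRingCat.of W) ⟶ S) : Over S :=
  Over.mk φ

theorem eq_of_residue_over {S : Scheme.{u}} (G : Over S) [GrpObj G] [IsCommMonObj G] [Smooth G.hom]
    {W : Type u} [CommRing W] [IsLocalRing W] (φ : Spec (CommRingCat.of W) ⟶ S) (n : ℕ) (hn : IsUnit (n : W))
    (a b : ringObj φ ⟶ G) (ha : a ^ n = 1) (hb : b ^ n = 1)
    (h : Spec.map (CommRingCat.ofHom (IsLocalRing.residue W)) ≫ a.left =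
      Spec.map (CommRingCat.ofHom (IsLocalRing.residue W)) ≫ b.left) : a = b := by
  let i : (Over.map φ).obj (GrpInfLib.baseObj W) ≅ ringObj φ :=
    Over.isoMk (Iso.refl _) (by simp)
  let E : (ringObj φ ⟶ G) ≃* (GrpInfLib.baseObj W ⟶ Red.bc φ G) :=
    (precompEquiv i).trans (adjEquiv φ G _)
  haveI : Smooth (Red.bc φ G).hom := inferInstanceAs (Smooth (pullback.snd G.hom φ))
  haveI : IsCommMonObj (Red.bc φ G) := inferInstance
  refine E.injective (GrpInfLib.eq_of_reduction (Red.bc φ G) n hn _ _ (by rw [← map_pow, ha, map_one])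
    (by rw [← map_pow, hb, map_one]) ?_)
  show GrpInfLib.resMap W ≫ (Over.mapPullbackAdj φ).homEquiv _ G (i.hom ≫ a) =
    GrpInfLib.resMap W ≫ (Over.mapPullbackAdj φ).homEquiv _ G (i.hom ≫ b)
  rw [← Adjunction.homEquiv_naturality_left, ← Adjunction.homEquiv_naturality_left]
  congr 1
  ext1
  show Spec.map _ ≫ 𝟙 _ ≫ a.left = Spec.map _ ≫ 𝟙 _ ≫ b.left
  rw [Category.id_comp, Category.id_comp]
  exact h

variable (R K : Type u) {Ω : Type u} [CommRing R] [IsDomain R] [IsDiscreteValuationRing R] [Field K] [Algebra R K]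
  [IsFractionRing R K] [Field Ω] [Algebra K Ω] [Algebra R Ω] [IsScalarTower R K Ω]
  (W : ValuationSubring Ω) (hW : SGA7.LiesOver K R W)
  (N : Over (Spec (CommRingCat.of R))) [GrpObj N] [IsCommMonObj N] [Smooth N.hom] [IsSeparated N.hom]

include hW in
/-- Torsion points extending to the valuation ring are fixed by inertia. -/
theorem fixed_of_extension (n : ℕ) (hn : IsUnit (n : R))
    (y : Over.mk (Spec.map (CommRingCat.ofHom (algebraMap R Ω))) ⟶ N) (hy : y ^ n = 1)
    (Y : ringObj (Spec.map (CommRingCat.ofHom (toW R K W hW))) ⟶ N)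
    (hY : Spec.map (CommRingCat.ofHom W.subtype) ≫ Y.left = y.left)
    (σ : Ω ≃ₐ[K] Ω) (hσ : SGA7.IsInertia W σ) :
    Spec.map (CommRingCat.ofHom (σ : Ω →+* Ω)) ≫ y.left = y.left := by
  let ιW : Over.mk (Spec.map (CommRingCat.ofHom (algebraMap R Ω))) ⟶
      ringObj (Spec.map (CommRingCat.ofHom (toW R K W hW))) :=
    Over.homMk (Spec.map (CommRingCat.ofHom W.subtype)) (by
      show Spec.map _ ≫ Spec.map _ = Spec.map _
      rw [← Spec.map_comp]
      rfl)
  have hY' : ιW ≫ Y = y := Over.OverMorphism.ext hY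
  haveI : IsDominant ιW.left := by
    show IsDominant (Spec.map (CommRingCat.ofHom W.subtype))
    rw [isDominant_iff, DenseRange]
    exact PrimeSpectrum.denseRange_comap_iff_ker_le_nilRadical _ |>.2 (by
      intro a ha
      rw [show a = 0 from Subtype.ext (RingHom.mem_ker.1 ha)]
      exact zero_mem _)
  haveI : IsReduced (ringObj (Spec.map (CommRingCat.ofHom (toW R K W hW)))).left :=
    inferInstanceAs (IsReduced (Spec (CommRingCat.of W)))
  have hYn : Y ^ n = 1 := by
    refine Over.OverMorphism.ext (ext_of_isDominant_of_isSeparated N.hom ((Over.w _).trans (Over.w _).symm) ιW.left ?_)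
    have h : ιW ≫ Y ^ n = ιW ≫ (1 : _ ⟶ N) := by rw [MonObj.comp_pow, hY', hy, MonObj.comp_one]
    exact congrArg CommaMorphism.left h
  let σW : W →+* W := ((σ : Ω →+* Ω).comp W.subtype).codRestrict W.toSubring fun x => (hσ x.1 x.2).1
  have hψ : σW.comp (toW R K W hW) = toW R K W hW := RingHom.ext fun r => Subtype.ext (by
    show σ (algebraMap R Ω r) = algebraMap R Ω r
    rw [IsScalarTower.algebraMap_apply R K Ω]
    exact σ.commutes _)
  let s : ringObj (Spec.map (CommRingCat.ofHom (toW R K W hW))) ⟶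
      ringObj (Spec.map (CommRingCat.ofHom (toW R K W hW))) := Over.homMk (Spec.map (CommRingCat.ofHom σW)) (by
    show Spec.map _ ≫ Spec.map _ = Spec.map _
    rw [← Spec.map_comp, ← CommRingCat.ofHom_comp, hψ])
  have hnW : IsUnit (n : W) := by
    have := hn.map (toW R K W hW)
    rwa [map_natCast] at this
  have hsY : s ≫ Y = Y := by
    refine eq_of_residue_over N _ n hnW _ _ (by rw [← MonObj.comp_pow, hYn, MonObj.comp_one]) hYn ?_
    show Spec.map _ ≫ Spec.map _ ≫ Y.left = _
    rw [← Category.assoc, ← Spec.map_comp, ← CommRingCat.ofHom_comp]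
    congr 3
    refine RingHom.ext fun x => ?_
    show IsLocalRing.residue W (σW x) = IsLocalRing.residue W x
    rw [← sub_eq_zero, ← map_sub, IsLocalRing.residue_eq_zero_iff, ValuationSubring.valuation_lt_one_iff]
    exact (hσ x.1 x.2).2
  calc Spec.map (CommRingCat.ofHom (σ : Ω →+* Ω)) ≫ y.left
      = (Spec.map (CommRingCat.ofHom W.subtype) ≫ s.left) ≫ Y.left := by
        rw [← hY, ← Category.assoc]
        congr 1
        show _ = _ ≫ Spec.map _
        rw [← Spec.map_comp, ← Spec.map_comp]
        rfl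
    _ = y.left := by
        rw [Category.assoc, ← Over.comp_left, hsY, hY]

end Groth.Agent.InertiaUnr
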