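import Groth.Agent.InertiaUnr.Valuation
import Groth.Agent.NeronMapLib.Basic
import Groth.Agent.GrpInfLib.TorsLift
import Groth.Agent.FixedSmooth.Split
import Groth.Prelude.Def_SGA7IX

/-!
# Fixed torsion points and extensions to the valuation ring
-/

set_option autoImplicit false
set_option linter.style.haveILetI false
set_option backward.isDefEq.respectTransparency false
universe u

open CategoryTheory CategoryTheory.Limits AlgebraicGeometry
open IntermediateField
open scoped TensorProduct

noncomputable section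

namespace Groth.Agent.InertiaUnr

variable (R K : Type u) {Ω : Type u} [CommRing R] [IsDomain R] [IsDiscreteValuationRing R] [HenselianLocalRing R]
  [Field K] [Algebra R K] [IsFractionRing R K] [Field Ω] [Algebra K Ω] [Algebra R Ω] [IsScalarTower R K Ω]
  [IsSepClosure K Ω] (W : ValuationSubring Ω) (hW : SGA7.LiesOver K R W)
  (N : Over (Spec (CommRingCat.of R))) (xl : Spec (CommRingCat.of Ω) ⟶ N.left)
  (hxl : xl ≫ N.hom = Spec.map (CommRingCat.ofHom (algebraMap R Ω)))

include hW hxl in
/-- An Ω-point fixed by inertia extends to the valuation ring. -/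
theorem exists_extension_of_fixed (hN : SGA7.IsNeron R K N)
    (hfix : ∀ σ : Ω ≃ₐ[K] Ω, SGA7.IsInertia W σ → Spec.map (CommRingCat.ofHom (σ : Ω →+* Ω)) ≫ xl = xl) :
    ∃ Y : Spec (CommRingCat.of W) ⟶ N.left, Y ≫ N.hom = Spec.map (CommRingCat.ofHom (toW R K W hW)) ∧
      Spec.map (CommRingCat.ofHom W.subtype) ≫ Y = xl := by
  classical
  haveI : Smooth N.hom := hN.1
  haveI : Algebra.IsSeparable K Ω := IsSepClosure.separable
  obtain ⟨U, hU, hqU, -⟩ := exists_isAffineOpen_mem_and_subset (x := xl (IsLocalRing.closedPoint Ω))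
    (U := ⊤) trivial
  have hr : Set.range xl ⊆ Set.range hU.fromSpec := by
    rintro _ ⟨t, rfl⟩
    rw [Subsingleton.elim (α := PrimeSpectrum Ω) t (IsLocalRing.closedPoint Ω), hU.range_fromSpec]
    exact hqU
  let φ := Spec.preimage (IsOpenImmersion.lift hU.fromSpec xl hr)
  have hφ : Spec.map φ ≫ hU.fromSpec = xl := by
    rw [Spec.map_preimage, IsOpenImmersion.lift_fac]
  let ρ := Spec.preimage (hU.fromSpec ≫ N.hom)
  have hρ : Spec.map ρ = hU.fromSpec ≫ N.hom := Spec.map_preimage _
  have hft : ρ.hom.FiniteType := by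
    rw [← HasRingHomProperty.Spec_iff (P := @LocallyOfFiniteType), hρ]
    infer_instance
  letI := ρ.hom.toAlgebra
  haveI : Algebra.FiniteType R Γ(N.left, U) := hft
  have hρφ : φ.hom.comp (algebraMap R Γ(N.left, U)) = algebraMap R Ω := by
    have h : ρ ≫ φ = CommRingCat.ofHom (algebraMap R Ω) := Spec.map_injective (by
      rw [Spec.map_comp, hρ, ← Category.assoc, hφ, hxl])
    exact congrArg CommRingCat.Hom.hom h
  obtain ⟨T, hT⟩ := (Algebra.FiniteType.out : (⊤ : Subalgebra R Γ(N.left, U)).FG)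
  let Y₀ : Finset Ω := T.image φ.hom
  obtain ⟨a, ⟨g, hgm, hgs, hgi, hga⟩, ha⟩ := exists_unr_of_fixed R K W hW Y₀ (fun y hy σ hσ => by
    obtain ⟨t, -, rfl⟩ := Finset.mem_image.1 hy
    have h : φ ≫ CommRingCat.ofHom (σ : Ω →+* Ω) = φ := Spec.map_injective (by
      rw [Spec.map_comp, ← cancel_mono hU.fromSpec, Category.assoc, hφ]
      exact hfix σ hσ)
    exact congr($(h).hom t))
  let B := AdjoinRoot g
  haveI : Module.Finite R B := hgm.finite_adjoinRoot
  haveI : Module.Free R B := Module.Free.of_basis (AdjoinRoot.powerBasis' hgm).basis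
  haveI : Algebra.Etale R B := MonoUnramLib.etale_quotient R hgm (MonoUnramLib.separable_of_map_residue R hgm hgs)
  let ψB : B →ₐ[R] Ω := AdjoinRoot.liftAlgHom g (Algebra.ofId R Ω) a hga
  let ι : K ⊗[R] B →ₐ[K] Ω := Algebra.TensorProduct.lift (Algebra.ofId K Ω) ψB (fun _ _ => Commute.all _ _)
  have hirr : Irreducible (g.map (algebraMap R K)) :=
    (hgm.irreducible_iff_irreducible_map_fraction_map).1 (hgm.irreducible_of_irreducible_map _ _ hgi)
  have hint : IsIntegral K a := (Algebra.IsSeparable.isSeparable K a).isIntegral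
  have hmin : minpoly K a = g.map (algebraMap R K) := (minpoly.eq_of_irreducible_of_monic hirr
    (by rw [Polynomial.aeval_map_algebraMap, hga]) (hgm.map _)).symm
  have hrange : K⟮a⟯.toSubalgebra ≤ ι.range := by
    rw [adjoin_simple_toSubalgebra_of_isAlgebraic hint.isAlgebraic, Algebra.adjoin_le_iff, Set.singleton_subset_iff]
    exact ⟨1 ⊗ₜ AdjoinRoot.root g, by simp [ι, ψB]; exact AdjoinRoot.liftAlgHom_root _ _ _ hga⟩
  have hinj : Function.Injective ι := by
    have h1 : Module.finrank K (K ⊗[R] B) = g.natDegree := by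
      rw [Module.finrank_baseChange, (AdjoinRoot.powerBasis' hgm).finrank]
      rfl
    have h2 : g.natDegree ≤ Module.finrank K ι.range := by
      rw [← hgm.natDegree_map (algebraMap R K), ← hmin, ← adjoin.finrank hint]
      haveI : Module.Finite K (Subalgebra.toSubmodule ι.range) := Module.Finite.range ι.toLinearMap
      exact Submodule.finrank_mono (s := Subalgebra.toSubmodule K⟮a⟯.toSubalgebra)
        (t := Subalgebra.toSubmodule ι.range) hrange
    have h3 := ι.toLinearMap.finrank_range_add_finrank_ker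
    have h4 : Module.finrank K (LinearMap.ker ι.toLinearMap) = 0 := by
      have : Module.finrank K (LinearMap.range ι.toLinearMap) = Module.finrank K ι.range := rfl
      omega
    exact LinearMap.ker_eq_bot.1 (Submodule.finrank_eq_zero.1 h4)
  let ιe := AlgEquiv.ofInjective ι hinj
  let φ' : Γ(N.left, U) →ₐ[R] Ω := { φ.hom with commutes' := RingHom.congr_fun hρφ }
  have hmem : ∀ t, φ' t ∈ ι.range := by
    have h : φ'.range ≤ ι.range.restrictScalars R := by
      rw [← Algebra.map_top, ← hT, AlgHom.map_adjoin, Algebra.adjoin_le_iff]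
      rintro _ ⟨t, ht, rfl⟩
      exact hrange (ha _ (Finset.mem_image.2 ⟨t, ht, rfl⟩))
    exact fun t => h ⟨t, rfl⟩
  let θ : Γ(N.left, U) →+* K ⊗[R] B := (ιe.symm : ι.range →+* _).comp (φ.hom.codRestrict ι.range hmem)
  have hιθ : (ι : K ⊗[R] B →+* Ω).comp θ = φ.hom := RingHom.ext fun t =>
    congrArg Subtype.val (ιe.apply_symm_apply ⟨φ.hom t, hmem t⟩)
  let YB : Over (Spec (CommRingCat.of R)) := Over.mk (Spec.map (CommRingCat.ofHom (algebraMap R B)))
  haveI : AlgebraicGeometry.Etale YB.hom :=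
    (HasRingHomProperty.Spec_iff (P := @AlgebraicGeometry.Etale)).2 (RingHom.etale_algebraMap.2 inferInstance)
  haveI : Smooth YB.hom := inferInstance
  let iB : Spec (CommRingCat.of (K ⊗[R] B)) ⟶ YB.left :=
    Spec.map (CommRingCat.ofHom (Algebra.TensorProduct.includeRight (R := R) (A := K) (B := B)).toRingHom)
  let iK : Spec (CommRingCat.of (K ⊗[R] B)) ⟶ Spec (CommRingCat.of K) :=
    Spec.map (CommRingCat.ofHom Algebra.TensorProduct.includeLeftRingHom)
  have sq : IsPullback iB iK YB.hom (Spec.map (CommRingCat.ofHom (algebraMap R K))) :=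
    (isPullback_SpecMap_of_isPushout _ _ _ _ (CommRingCat.isPushout_tensorProduct R K B)).flip
  let h₀ : Spec (CommRingCat.of (K ⊗[R] B)) ⟶ N.left := Spec.map (CommRingCat.ofHom θ) ≫ hU.fromSpec
  have hh₀ : h₀ ≫ N.hom = iB ≫ YB.hom := by
    show (Spec.map _ ≫ hU.fromSpec) ≫ N.hom = Spec.map _ ≫ Spec.map _
    rw [Category.assoc, ← hρ, ← Spec.map_comp, ← Spec.map_comp]
    congr 1
    ext r
    refine hinj ?_
    show ι (θ (ρ.hom r)) = ι ((1 : K) ⊗ₜ algebraMap R B r)
    rw [show ι (θ (ρ.hom r)) = φ.hom (ρ.hom r) from RingHom.congr_fun hιθ _]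
    refine (RingHom.congr_fun hρφ r).trans ?_
    simp [ι]
  obtain ⟨gB, ⟨hg, hg'⟩, -⟩ := (NeronMapLib.bijective_iff _ YB N sq).1 (hN.2.2.2 YB inferInstance) h₀ hh₀
  have haW : a ∈ W := (mem_iff_isIntegral R K W hW a).2 ⟨g, hgm, hga⟩
  letI := (toW R K W hW).toAlgebra
  let ψW : B →ₐ[R] W := AdjoinRoot.liftAlgHom g (Algebra.ofId R W) ⟨a, haW⟩
    (Subtype.ext (by rw [show (Algebra.ofId R W : R →+* W) = toW R K W hW from rfl, eval₂_toW]; exact hga))
  refine ⟨Spec.map (CommRingCat.ofHom ψW.toRingHom) ≫ gB, ?_, ?_⟩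
  · rw [Category.assoc, hg]
    show Spec.map _ ≫ Spec.map _ = _
    rw [← Spec.map_comp]
    congr 1
    ext r
    exact congrArg Subtype.val (ψW.commutes r)
  · have e : Spec.map (CommRingCat.ofHom W.subtype) ≫ Spec.map (CommRingCat.ofHom ψW.toRingHom) =
        Spec.map (CommRingCat.ofHom (ι : K ⊗[R] B →+* Ω)) ≫ iB := by
      show _ = _ ≫ Spec.map _
      rw [← Spec.map_comp, ← Spec.map_comp]
      congr 1
      let W' : W →ₐ[R] Ω := { W.subtype with commutes' := fun _ => rfl }
      have : W'.comp ψW = (ι.restrictScalars R).comp Algebra.TensorProduct.includeRight :=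
        AdjoinRoot.algHom_ext (by simp [ι, ψW, ψB, W'])
      exact CommRingCat.hom_ext (RingHom.ext fun b => AlgHom.congr_fun this b)
    rw [reassoc_of% e, hg', ← hφ, ← Category.assoc, ← Spec.map_comp]
    congr 2
    exact CommRingCat.hom_ext hιθ

omit xl hxl in
include hW in
theorem specializes_of_extension (Y : Spec (CommRingCat.of W) ⟶ N.left)
    (hY : Y ≫ N.hom = Spec.map (CommRingCat.ofHom (toW R K W hW))) :
    ∃ z ∈ SGA7.specialFibreSet R N,
      (Spec.map (CommRingCat.ofHom W.subtype) ≫ Y) (IsLocalRing.closedPoint Ω) ⤳ z := by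
  refine ⟨Y (IsLocalRing.closedPoint W), ?_, ?_⟩
  · haveI := toW_local R K W hW
    show N.hom (Y _) = IsLocalRing.closedPoint R
    rw [← Scheme.Hom.comp_apply, hY]
    exact IsLocalRing.comap_closedPoint (toW R K W hW)
  · rw [Scheme.Hom.comp_apply]
    exact (IsLocalRing.specializes_closedPoint _).map Y.continuous

include hW hxl in
theorem exists_extension_of_specializes (z : N.left) (hz : z ∈ SGA7.specialFibreSet R N)
    (hs : xl (IsLocalRing.closedPoint Ω) ⤳ z) :
    ∃ Y : Spec (CommRingCat.of W) ⟶ N.left, Y ≫ N.hom = Spec.map (CommRingCat.ofHom (toW R K W hW)) ∧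
      Spec.map (CommRingCat.ofHom W.subtype) ≫ Y = xl := by
  let χ : N.left.presheaf.stalk z ⟶ CommRingCat.of Ω :=
    N.left.presheaf.stalkSpecializes hs ≫ Scheme.stalkClosedPointTo xl
  have hχ : Spec.map χ ≫ N.left.fromSpecStalk z = xl := by
    simp only [χ, Spec.map_comp, Category.assoc, Scheme.SpecMap_stalkSpecializes_fromSpecStalk]
    exact Scheme.Spec_stalkClosedPointTo_fromSpecStalk xl
  obtain ⟨V, hV⟩ := (LocalSubring.range χ.hom).exists_le_valuationSubring
  have hmem : ∀ t, χ.hom t ∈ V := fun t => hV.1 ⟨t, rfl⟩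
  let χV : N.left.presheaf.stalk z →+* V := χ.hom.codRestrict V.toSubring hmem
  haveI : IsLocalHom χV := by
    exact @RingHom.isLocalHom_comp _ _ _ _ _ _ _ _ hV.2 (.of_surjective _ χ.hom.rangeRestrict_surjective)
  let ρ := Spec.preimage (N.left.fromSpecStalk z ≫ N.hom)
  have hρ : Spec.map ρ = N.left.fromSpecStalk z ≫ N.hom := Spec.map_preimage _
  have hρχ : χ.hom.comp ρ.hom = algebraMap R Ω := by
    have h : ρ ≫ χ = CommRingCat.ofHom (algebraMap R Ω) := Spec.map_injective (by
      rw [Spec.map_comp, hρ, ← Category.assoc, hχ, hxl])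
    exact congrArg CommRingCat.Hom.hom h
  haveI : IsLocalHom ρ.hom := by
    have h5 : Spec.map ρ (IsLocalRing.closedPoint _) = IsLocalRing.closedPoint R := by
      rw [hρ, Scheme.Hom.comp_apply, Scheme.fromSpecStalk_closedPoint]
      exact hz
    refine ⟨fun r hr => ?_⟩
    by_contra hnu
    have h6 : r ∈ (Spec.map ρ (IsLocalRing.closedPoint _)).asIdeal := by rw [h5]; exact hnu
    exact h6 hr
  have hV' : SGA7.LiesOver K R V := by
    refine ⟨fun r => ?_, fun r hr => ?_⟩
    · rw [← IsScalarTower.algebraMap_apply, ← RingHom.congr_fun hρχ r]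
      exact hmem _
    · rw [← IsScalarTower.algebraMap_apply, ← RingHom.congr_fun hρχ r]
      exact (ValuationSubring.valuation_lt_one_iff V (χV (ρ.hom r))).1
        (map_nonunit (χV.comp ρ.hom) r hr)
  obtain rfl : V = W := eq_of_liesOver R K V hV' hW
  refine ⟨Spec.map (CommRingCat.ofHom χV) ≫ N.left.fromSpecStalk z, ?_, ?_⟩
  · rw [Category.assoc, ← hρ, ← Spec.map_comp]
    congr 1
    ext r
    exact RingHom.congr_fun hρχ r
  · rw [← Category.assoc, ← Spec.map_comp, ← hχ]
    rfl

end Groth.Agent.InertiaUnr
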