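import Mathlib
import Groth.Agent.Hensel.Basic
import Groth.Agent.MonoUnramLib.Basic
import Groth.Agent.NormalTensor.Henselian
import Groth.Prelude.Def_SGA7a

/-!
# The valuation of a separable closure over a henselian discrete valuation ring

`W` is the set of integral elements; the fixed field of the inertia group at `W` consists of the elements of
the fields `K(a)`, `a` a root of a monic polynomial with separable irreducible reduction.
-/

set_option autoImplicit false
set_option linter.style.haveILetI false
universe u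

open Polynomial IntermediateField
open IsLocalRing (ResidueField residue maximalIdeal)

namespace Groth.Agent.InertiaUnr

variable (R K : Type u) {Ω : Type u} [CommRing R] [IsDomain R] [IsDiscreteValuationRing R]
  [Field K] [Algebra R K] [IsFractionRing R K] [Field Ω] [Algebra K Ω] [Algebra R Ω] [IsScalarTower R K Ω]
  (W : ValuationSubring Ω)

/-- The structure map of a valuation subring lying over the base. -/
def toW (hW : SGA7.LiesOver K R W) : R →+* W :=
  (algebraMap R Ω).codRestrict W.toSubring fun r => by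
    rw [IsScalarTower.algebraMap_apply R K Ω]; exact hW.1 r

theorem toW_local (hW : SGA7.LiesOver K R W) : IsLocalHom (toW R K W hW) := by
  refine ⟨fun r hr => ?_⟩
  by_contra h
  have h1 := hW.2 r h
  rw [← IsScalarTower.algebraMap_apply] at h1
  exact ((ValuationSubring.valuation_lt_one_iff W (toW R K W hW r)).2 h1) hr

variable [HenselianLocalRing R] [IsSepClosure K Ω]

/-- Over a henselian base the valuation subring is the set of integral elements. -/
theorem mem_iff_isIntegral (hW : SGA7.LiesOver K R W) (x : Ω) : x ∈ W ↔ IsIntegral R x := by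
  letI := (toW R K W hW).toAlgebra
  haveI : IsScalarTower R W Ω := .of_algebraMap_eq fun _ => rfl
  constructor
  · intro hx
    by_contra hn
    have hx0 : x ≠ 0 := fun h => hn (h ▸ isIntegral_zero)
    haveI : Algebra.IsSeparable K Ω := IsSepClosure.separable
    let L := K⟮x⟯
    haveI : FiniteDimensional K L := adjoin.finiteDimensional (Algebra.IsSeparable.isSeparable K x).isIntegral
    haveI : IsScalarTower R K L := inferInstance
    haveI : IsScalarTower R L Ω := .of_algebraMap_eq fun r => rfl
    let C := integralClosure R L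
    haveI : Module.Finite R C := IsIntegralClosure.finite R K L C
    haveI : IsLocalRing C := NormalTensor.isLocalRing_of_finite_domain R C
    haveI : IsDedekindDomain C := IsIntegralClosure.isDedekindDomain R K L C
    haveI : IsFractionRing C L := integralClosure.isFractionRing_of_finite_extension K L
    haveI : IsPrincipalIdealRing C := IsPrincipalIdealRing.of_finite_primes
      (((Set.finite_singleton (⊥ : Ideal C)).insert (maximalIdeal C)).subset fun P hP => by
        rcases eq_or_ne P ⊥ with h | h
        · exact Or.inr h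
        · exact Or.inl (IsLocalRing.eq_maximalIdeal (hP.isMaximal h)))
    haveI : ValuationRing C := inferInstance
    let y : L := ⟨x, mem_adjoin_simple_self K x⟩
    have hy : ¬ IsIntegral R y := fun h => hn (h.map (IsScalarTower.toAlgHom R L Ω))
    rcases ValuationRing.isInteger_or_isInteger C y with ⟨c, hc⟩ | ⟨c, hc⟩
    · exact hy (hc ▸ c.2)
    · have hc0 : c ∈ maximalIdeal C := fun ⟨v, hv⟩ => hy (by
        have h2 : ((↑v⁻¹ : C) : L) * y⁻¹ = 1 := by
          rw [← hc]
          show algebraMap C L _ * algebraMap C L c = 1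
          rw [← map_mul, ← hv, Units.inv_mul, map_one]
        rw [mul_inv_eq_one₀ (fun h => hx0 (congrArg Subtype.val h))] at h2
        exact h2 ▸ (↑v⁻¹ : C).2)
      let toWC : C →+* W := ((algebraMap L Ω).comp (algebraMap C L)).codRestrict W.toSubring fun d => by
        obtain ⟨e, he⟩ := (IsIntegrallyClosed.isIntegral_iff (R := W)).1
          ((d.2.map (IsScalarTower.toAlgHom R L Ω)).tower_top (A := W))
        exact he ▸ e.2
      let P := (maximalIdeal W).comap toWC
      haveI : P.IsPrime := Ideal.IsPrime.comap toWC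
      haveI : IsLocalHom (toW R K W hW) := toW_local R K W hW
      have hcomp : toWC.comp (algebraMap R C) = toW R K W hW := RingHom.ext fun r => Subtype.ext
        ((IsScalarTower.algebraMap_apply R L Ω r).symm)
      have hPc : P.comap (algebraMap R C) = maximalIdeal R := by
        rw [Ideal.comap_comap, hcomp]
        exact IsLocalRing.maximalIdeal_comap (toW R K W hW)
      haveI : (P.comap (algebraMap R C)).IsMaximal := hPc ▸ inferInstance
      have hP : P = maximalIdeal C :=
        IsLocalRing.eq_maximalIdeal (Ideal.isMaximal_of_isIntegral_of_isMaximal_comap P ‹_›)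
      have h3 : toWC c ∈ maximalIdeal W := by
        rw [← hP] at hc0; exact hc0
      refine h3 (IsUnit.of_mul_eq_one ⟨x, hx⟩ (Subtype.ext ?_))
      show algebraMap L Ω (algebraMap C L c) * x = 1
      rw [hc, map_inv₀]
      exact inv_mul_cancel₀ hx0
  · intro hx
    obtain ⟨e, he⟩ := (IsIntegrallyClosed.isIntegral_iff (R := W)).1 (hx.tower_top (A := W))
    exact he ▸ e.2

theorem eq_of_liesOver {W' : ValuationSubring Ω} (hW : SGA7.LiesOver K R W) (hW' : SGA7.LiesOver K R W') :
    W = W' :=
  SetLike.ext fun x => (mem_iff_isIntegral R K W hW x).trans (mem_iff_isIntegral R K W' hW' x).symm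

theorem map_mem (hW : SGA7.LiesOver K R W) (σ : Ω ≃ₐ[K] Ω) {x : Ω} (hx : x ∈ W) : σ x ∈ W :=
  (mem_iff_isIntegral R K W hW _).2 (((mem_iff_isIntegral R K W hW x).1 hx).map (σ.toAlgHom.restrictScalars R))

/-- An automorphism acting on the valuation subring. -/
def autW (hW : SGA7.LiesOver K R W) (σ : Ω ≃ₐ[K] Ω) : W ≃+* W where
  toFun x := ⟨σ x, map_mem R K W hW σ x.2⟩
  invFun x := ⟨σ.symm x, map_mem R K W hW σ.symm x.2⟩
  left_inv x := Subtype.ext (σ.symm_apply_apply x.1)
  right_inv x := Subtype.ext (σ.apply_symm_apply x.1)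
  map_mul' _ _ := Subtype.ext (map_mul σ _ _)
  map_add' _ _ := Subtype.ext (map_add σ _ _)

/-- A root of a monic polynomial with separable irreducible reduction. -/
def Unr (a : Ω) : Prop :=
  ∃ g : R[X], g.Monic ∧ (g.map (residue R)).Separable ∧ Irreducible (g.map (residue R)) ∧ aeval a g = 0

theorem eval₂_toW (hW : SGA7.LiesOver K R W) (g : R[X]) (a : W) :
    ((g.eval₂ (toW R K W hW) a : W) : Ω) = aeval (a : Ω) g := by
  show W.subtype (g.eval₂ (toW R K W hW) a) = _
  rw [hom_eval₂]
  rfl

theorem root_unique (hW : SGA7.LiesOver K R W) {g : R[X]} (hs : (g.map (residue R)).Separable) {a b : W}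
    (ha : aeval (a : Ω) g = 0) (hb : aeval (b : Ω) g = 0) (h : residue W a = residue W b) : a = b := by
  haveI : IsLocalHom (toW R K W hW) := toW_local R K W hW
  have ha' : (g.map (toW R K W hW)).IsRoot a := Subtype.ext (by
    rw [eval_map, eval₂_toW, ha]; rfl)
  have hb' : (g.map (toW R K W hW)).IsRoot b := Subtype.ext (by
    rw [eval_map, eval₂_toW, hb]; rfl)
  refine Hensel.root_unique ha' hb' ?_ ?_
  · rw [IsLocalRing.jacobson_eq_maximalIdeal (⊥ : Ideal W) bot_ne_top, ← IsLocalRing.residue_eq_zero_iff,
      map_sub, h, sub_self]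
  · rw [← IsLocalRing.residue_ne_zero_iff_isUnit, derivative_map, eval_map, hom_eval₂]
    have e : (residue W).comp (toW R K W hW) = (ResidueField.map (toW R K W hW)).comp (residue R) :=
      (IsLocalRing.ResidueField.map_comp_residue _).symm
    rw [e, ← eval_map, ← Polynomial.map_map, ← derivative_map, ← derivative_map]
    refine (hs.map (f := ResidueField.map (toW R K W hW))).eval₂_derivative_ne_zero (RingHom.id _) ?_
    rw [eval₂_id, Polynomial.map_map, eval_map, ← e, ← hom_eval₂, ← eval_map]
    show residue W ((g.map (toW R K W hW)).eval b) = 0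
    rw [hb'.eq_zero, map_zero]

section Residue

variable [Algebra (ResidueField R) (ResidueField W)]
  (hmap : ∀ (hW : SGA7.LiesOver K R W) (r : R),
    algebraMap (ResidueField R) (ResidueField W) (residue R r) = residue W (toW R K W hW r))

include hmap in
theorem exists_unr_lift (hW : SGA7.LiesOver K R W) (s : ResidueField W) (hs : IsSeparable (ResidueField R) s) :
    ∃ a : W, Unr R (a : Ω) ∧ residue W a = s := by
  haveI : Algebra.IsSeparable K Ω := IsSepClosure.separable
  haveI : IsSepClosed Ω := IsSepClosure.sep_closed K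
  let m := minpoly (ResidueField R) s
  obtain ⟨g, hg, -, hgm⟩ := lifts_and_degree_eq_and_monic (f := residue R)
    (Polynomial.map_surjective _ IsLocalRing.residue_surjective m) (minpoly.monic hs.isIntegral)
  have hgs : (g.map (residue R)).Separable := hg ▸ hs
  have hsep : g.Separable := MonoUnramLib.separable_of_map_residue R hgm hgs
  letI := (toW R K W hW).toAlgebra
  haveI : IsScalarTower R W Ω := .of_algebraMap_eq fun _ => rfl
  have hsp : (g.map (algebraMap R Ω)).Splits := IsSepClosed.splits_of_separable _ hsep.map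
  obtain ⟨z, rfl⟩ := IsLocalRing.residue_surjective s
  have hprod : (g.map (algebraMap R Ω)).eval (z : Ω) =
      ((g.map (algebraMap R Ω)).roots.map fun a => (z : Ω) - a).prod :=
    hsp.eval_eq_prod_roots_of_monic (hgm.map _) _
  have hz0 : residue W (g.eval₂ (toW R K W hW) z) = 0 := by
    rw [hom_eval₂, show (residue W).comp (toW R K W hW) =
      (algebraMap (ResidueField R) (ResidueField W)).comp (residue R) from RingHom.ext fun r => (hmap hW r).symm,
      ← eval₂_map, hg, ← aeval_def, minpoly.aeval]
  have hroot : ∀ a ∈ (g.map (algebraMap R Ω)).roots, a ∈ W := fun a ha => by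
    have h0 : aeval a g = 0 := by
      rw [aeval_def, ← eval_map]; exact (mem_roots'.1 ha).2
    obtain ⟨e, he⟩ := (IsIntegrallyClosed.isIntegral_iff (R := W)).1
      (IsIntegral.tower_top (A := W) (show IsIntegral R a from ⟨g, hgm, h0⟩))
    exact he ▸ e.2
  let r := (g.map (algebraMap R Ω)).roots.pmap (fun a ha => (⟨a, ha⟩ : W)) hroot
  have hr : (r.map fun a => z - a).prod = g.eval₂ (toW R K W hW) z := Subtype.ext (by
    rw [eval₂_toW, aeval_def, ← eval_map, hprod]
    show W.subtype _ = _
    rw [map_multiset_prod, Multiset.map_map, Multiset.map_pmap]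
    exact congrArg Multiset.prod (Multiset.pmap_eq_map _ _ _ _))
  have h1 := congrArg (residue W) hr
  rw [hz0, map_multiset_prod, Multiset.prod_eq_zero_iff, Multiset.map_map, Multiset.mem_map] at h1
  obtain ⟨a, ha, ha'⟩ := h1
  obtain ⟨a₀, ha₀, rfl⟩ := Multiset.mem_pmap.1 ha
  refine ⟨⟨a₀, hroot a₀ ha₀⟩, ⟨g, hgm, hgs, hg ▸ minpoly.irreducible hs.isIntegral, ?_⟩, ?_⟩
  · rw [aeval_def, ← eval_map]; exact (mem_roots'.1 ha₀).2
  · exact (sub_eq_zero.1 ((map_sub _ _ _).symm.trans ha')).symm

include hmap in
theorem isSeparable_residue (hW : SGA7.LiesOver K R W) (a : W) (ha : Unr R (a : Ω)) :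
    IsSeparable (ResidueField R) (residue W a) := by
  obtain ⟨g, -, hgs, -, hga⟩ := ha
  refine hgs.of_dvd (minpoly.dvd _ _ ?_)
  rw [aeval_def, eval₂_map, show (algebraMap (ResidueField R) (ResidueField W)).comp (residue R) =
      (residue W).comp (toW R K W hW) from RingHom.ext fun r => hmap hW r, ← hom_eval₂,
    show g.eval₂ (toW R K W hW) a = 0 from Subtype.ext (by rw [eval₂_toW, hga]; rfl), map_zero]

end Residue

/-- Fixing all unramified roots implies being in the inertia group. -/
theorem isInertia_of_fixes (hW : SGA7.LiesOver K R W) (σ : Ω ≃ₐ[K] Ω) (h : ∀ a : Ω, Unr R a → σ a = a) :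
    SGA7.IsInertia W σ := by
  intro x hx
  refine ⟨map_mem R K W hW σ hx, ?_⟩
  haveI : IsLocalHom (toW R K W hW) := toW_local R K W hW
  letI := (ResidueField.map (toW R K W hW)).toAlgebra
  have hmap : ∀ (hW' : SGA7.LiesOver K R W) (r : R), algebraMap (ResidueField R) (ResidueField W) (residue R r) =
      residue W (toW R K W hW' r) := fun _ r => rfl
  haveI : Algebra.IsIntegral (ResidueField R) (ResidueField W) := ⟨fun s => by
    obtain ⟨z, rfl⟩ := IsLocalRing.residue_surjective s
    obtain ⟨g, hgm, hg⟩ := (mem_iff_isIntegral R K W hW z).1 z.2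
    refine ⟨g.map (residue R), hgm.map _, ?_⟩
    rw [eval₂_map, show (algebraMap (ResidueField R) (ResidueField W)).comp (residue R) =
      (residue W).comp (toW R K W hW) from RingHom.ext fun r => rfl, ← hom_eval₂,
      show g.eval₂ (toW R K W hW) z = 0 from Subtype.ext (by rw [eval₂_toW]; exact hg), map_zero]⟩
  let q := ringExpChar (ResidueField R)
  haveI : ExpChar (ResidueField R) q := ringExpChar.expChar _
  haveI : ExpChar (ResidueField W) q := expChar_of_injective_algebraMap (algebraMap (ResidueField R) _).injective q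
  obtain ⟨n, hn⟩ := IsPurelyInseparable.pow_mem (separableClosure (ResidueField R) (ResidueField W)) q
    (residue W ⟨x, hx⟩)
  obtain ⟨s, hs⟩ := hn
  obtain ⟨a, haU, ha⟩ := exists_unr_lift R K W hmap hW s.1 (mem_separableClosure_iff.1 s.2)
  have ha' : residue W a = residue W ⟨x, hx⟩ ^ q ^ n := ha.trans hs
  let τ := ResidueField.map (autW R K W hW σ : W →+* W)
  have hfix : τ (residue W a) = residue W a :=
    (IsLocalRing.ResidueField.map_residue _ _).trans (congrArg _ (Subtype.ext (h a haU)))
  rw [ha', map_pow] at hfix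
  have h2 : τ (residue W ⟨x, hx⟩) = residue W ⟨x, hx⟩ := iterateFrobenius_inj (ResidueField W) q n (by
    simpa only [iterateFrobenius_def] using hfix)
  rw [IsLocalRing.ResidueField.map_residue, ← sub_eq_zero, ← map_sub, IsLocalRing.residue_eq_zero_iff,
    ValuationSubring.valuation_lt_one_iff] at h2
  exact h2

/-- An element fixed by the inertia group lies in an unramified extension. -/
theorem exists_unr_of_fixed (hW : SGA7.LiesOver K R W) (Y : Finset Ω)
    (hy : ∀ y ∈ Y, ∀ σ : Ω ≃ₐ[K] Ω, SGA7.IsInertia W σ → σ y = y) :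
    ∃ a : Ω, Unr R a ∧ ∀ y ∈ Y, y ∈ K⟮a⟯ := by
  haveI : IsLocalHom (toW R K W hW) := toW_local R K W hW
  letI := (ResidueField.map (toW R K W hW)).toAlgebra
  have hmap : ∀ (hW' : SGA7.LiesOver K R W) (r : R), algebraMap (ResidueField R) (ResidueField W) (residue R r) =
      residue W (toW R K W hW' r) := fun _ r => rfl
  let F := adjoin K {a : Ω | Unr R a}
  have hyF : ∀ y ∈ Y, y ∈ F := fun y hyY => by
    rw [← InfiniteGalois.fixedField_fixingSubgroup F]
    exact fun σ => hy y hyY σ.1 (isInertia_of_fixes R K W hW σ.1 fun a ha => σ.2 ⟨a, subset_adjoin K _ ha⟩)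
  choose T₀ hT₀ hyT₀ using fun y : Y => exists_finset_of_mem_adjoin (hyF y.1 y.2)
  classical
  let T : Finset Ω := Finset.univ.biUnion T₀
  have hT : (T : Set Ω) ⊆ {a : Ω | Unr R a} := fun a ha => by
    obtain ⟨y, -, ha⟩ := Finset.mem_biUnion.1 ha
    exact hT₀ y ha
  have hyT : ∀ y ∈ Y, y ∈ adjoin K (T : Set Ω) := fun y hyY =>
    adjoin.mono K _ _ (fun a ha => Finset.mem_biUnion.2 ⟨⟨y, hyY⟩, Finset.mem_univ _, ha⟩) (hyT₀ ⟨y, hyY⟩)
  have hTW : ∀ a ∈ T, a ∈ W := fun a ha => by
    obtain ⟨g, hgm, -, -, hga⟩ := hT ha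
    exact (mem_iff_isIntegral R K W hW a).2 ⟨g, hgm, hga⟩
  classical
  let S : Finset (ResidueField W) := T.attach.image fun a => residue W ⟨a.1, hTW a.1 a.2⟩
  have hS : ∀ s ∈ (S : Set (ResidueField W)), IsSeparable (ResidueField R) s := fun s hs => by
    obtain ⟨a, -, rfl⟩ := Finset.mem_image.1 hs
    exact isSeparable_residue R K W hmap hW _ (hT a.2)
  let k' := adjoin (ResidueField R) (S : Set (ResidueField W))
  haveI : FiniteDimensional (ResidueField R) k' := finiteDimensional_adjoin fun s hs => (hS s hs).isIntegral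
  haveI : Algebra.IsSeparable (ResidueField R) k' := (isSeparable_adjoin_iff_isSeparable _ _).2 hS
  obtain ⟨c, hc⟩ := Field.exists_primitive_element (ResidueField R) k'
  obtain ⟨a, haU, ha⟩ := exists_unr_lift R K W hmap hW c.1
    (IsSeparable.map (f := k'.val) k'.val.injective (Algebra.IsSeparable.isSeparable _ c))
  refine ⟨a, haU, ?_⟩
  refine fun y hyY => adjoin_le_iff.2 (fun s hs => ?_) (hyT y hyY)
  show s ∈ K⟮(a : Ω)⟯
  rw [← InfiniteGalois.fixedField_fixingSubgroup K⟮(a : Ω)⟯]
  intro σ
  show σ.1 s = s
  have hσa : σ.1 (a : Ω) = a := σ.2 ⟨a, mem_adjoin_simple_self K _⟩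
  let τ : ResidueField W →ₐ[ResidueField R] ResidueField W :=
    { ResidueField.map (autW R K W hW σ.1 : W →+* W) with
      commutes' := fun r => by
        obtain ⟨r, rfl⟩ := IsLocalRing.residue_surjective r
        rw [hmap hW]
        refine (IsLocalRing.ResidueField.map_residue _ _).trans (congrArg _ (Subtype.ext ?_))
        show σ.1 (algebraMap R Ω r) = algebraMap R Ω r
        rw [IsScalarTower.algebraMap_apply R K Ω]
        exact σ.1.commutes _ }
  have hτc : τ c.1 = c.1 := by
    rw [← ha]
    exact (IsLocalRing.ResidueField.map_residue _ _).trans (congrArg _ (Subtype.ext hσa))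
  have hk' : k' = (ResidueField R)⟮(c : ResidueField W)⟯ := by
    rw [← lift_adjoin_simple (F := ResidueField R) k' c, hc, lift_top]
  have hτ : ∀ x ∈ k', τ x = x := by
    intro x hx
    rw [hk'] at hx
    induction hx using adjoin_induction with
    | mem x hx => rw [Set.mem_singleton_iff.1 hx]; exact hτc
    | algebraMap r => exact τ.commutes r
    | add x y _ _ hx hy => rw [map_add, hx, hy]
    | inv x _ hx => rw [map_inv₀, hx]
    | mul x y _ _ hx hy => rw [map_mul, hx, hy]
  have hs' : residue W ⟨s, hTW s hs⟩ ∈ k' :=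
    subset_adjoin _ _ (Finset.mem_image.2 ⟨⟨s, hs⟩, Finset.mem_attach _ _, rfl⟩)
  have h4 : τ (residue W ⟨s, hTW s hs⟩) = residue W ⟨s, hTW s hs⟩ := hτ _ hs'
  obtain ⟨g, -, hgs, -, hga⟩ := hT hs
  exact congrArg Subtype.val (root_unique R K W hW hgs
    (a := ⟨σ.1 s, map_mem R K W hW σ.1 (hTW s hs)⟩) (b := ⟨s, hTW s hs⟩)
    (by
      show aeval ((σ.1.toAlgHom.restrictScalars R) s) g = 0
      rw [aeval_algHom_apply, hga, map_zero])
    hga ((IsLocalRing.ResidueField.map_residue _ _).symm.trans h4))

end Groth.Agent.InertiaUnr
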